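import Cfsg.Agent.H976.Inv.Main

/-!
# Every isometry of finite order is inverted by an (anti-)isometry
-/

set_option autoImplicit false

namespace Cfsg.Agent.H976.Inv

open Module Polynomial

universe u

section RR

variable (F : Type*) [Field F] (N : ℕ)

/-- the group algebra of the cyclic group of order `N` -/
abbrev RR : Type _ := F[X] ⧸ Ideal.span {(X ^ N - 1 : F[X])}

/-- the generator -/
noncomputable def gg : RR F N := Ideal.Quotient.mk _ X

theorem gg_pow : gg F N ^ N = 1 := by
  have h1 : Ideal.Quotient.mk (Ideal.span {(X ^ N - 1 : F[X])}) (X ^ N - 1) = 0 :=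
    Ideal.Quotient.eq_zero_iff_mem.2 (Ideal.subset_span rfl)
  rw [map_sub, map_pow, map_one, sub_eq_zero] at h1
  exact h1

/-- lift -/
noncomputable def liftN {A : Type*} [Ring A] [Algebra F A] (a : A) (ha : a ^ N = 1) : RR F N →ₐ[F] A :=
  Ideal.Quotient.liftₐ _ (aeval a) (by
    intro p hp
    obtain ⟨q, rfl⟩ := Ideal.mem_span_singleton.1 hp
    rw [map_mul, map_sub, map_pow, aeval_X, map_one, ha, sub_self, zero_mul])

theorem liftN_gg {A : Type*} [Ring A] [Algebra F A] (a : A) (ha : a ^ N = 1) : liftN F N a ha (gg F N) = a := by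
  show aeval a (X : F[X]) = a
  rw [aeval_X]

theorem gg_gen : Algebra.adjoin F {gg F N} = ⊤ := by
  rw [eq_top_iff]
  rintro x -
  obtain ⟨p, rfl⟩ := Ideal.Quotient.mk_surjective x
  rw [Algebra.adjoin_singleton_eq_range_aeval]
  refine ⟨p, ?_⟩
  have : aeval (gg F N) p = Ideal.Quotient.mkₐ F (Ideal.span {(X ^ N - 1 : F[X])}) (aeval X p) := by
    rw [← aeval_algHom_apply]; rfl
  show aeval (gg F N) p = _
  rw [this, aeval_X_left_apply]; rfl

/-- the involution `g ↦ g⁻¹` -/
noncomputable def invN : RR F N →ₐ[F] RR F N := liftN F N (gg F N ^ (N - 1)) (by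
  rw [← pow_mul, mul_comm, pow_mul, gg_pow, one_pow])

theorem invN_gg (hN : 0 < N) : invN F N (gg F N) * gg F N = 1 := by
  rw [invN, liftN_gg, ← pow_succ, Nat.sub_add_cancel hN, gg_pow]

end RR

variable {F : Type*} [Field F] {V : Type u} [AddCommGroup V] [Module F V]

theorem exists_inverting [FiniteDimensional F V] (T : V ≃ₗ[F] V) {N : ℕ} (hN : 0 < N) (hT : T ^ N = 1)
    {ε κ : F} (hε : ε * ε = 1) (hκ : κ * ε = κ) (B : V →ₗ[F] V →ₗ[F] F) (Q : V → F)
    (hsymm : ∀ x y, B x y = ε * B y x) (hadd : ∀ x y, Q (x + y) = Q x + Q y + κ * B x y)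
    (hsm : ∀ (c : F) x, Q (c • x) = c * c * Q x) (hnd : ∀ x, (∀ y, B x y = 0) → x = 0)
    (hBT : ∀ x y, B (T x) (T y) = B x y) (hQT : ∀ x, Q (T x) = Q x) :
    ∃ σ : V ≃ₗ[F] V, (∀ x, σ (T x) = T.symm (σ x)) ∧ (∀ x y, B (σ x) (σ y) = B y x) ∧ (∀ x, Q (σ x) = Q x) ∧
      ∀ x, σ (σ x) = x := by
  let T' : Module.End F V := T.toLinearMap
  have hT' : T' ^ N = 1 := by
    apply LinearMap.ext
    intro x
    have h1 : ∀ m, (T' ^ m) x = (T ^ m) x := by
      intro m
      induction m generalizing x with
      | zero => rfl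
      | succ m ih => rw [pow_succ, pow_succ, Module.End.mul_apply, ih]; rfl
    rw [h1, hT]; rfl
  let θ : RR F N →ₐ[F] Module.End F V := liftN F N T' hT'
  have hθg : θ (gg F N) = T' := liftN_gg F N T' hT'
  letI : Module (RR F N) V := Module.compHom V θ.toRingHom
  have hsmul : ∀ (a : RR F N) (x : V), a • x = θ a x := fun a x => rfl
  haveI : IsScalarTower F (RR F N) V := ⟨fun c a x => by
    rw [hsmul, hsmul, map_smul, LinearMap.smul_apply]⟩
  have hgx : ∀ x : V, gg F N • x = T x := fun x => by rw [hsmul, hθg]; rfl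
  have hinv := invN_gg F N hN
  have hstg : ∀ x : V, invN F N (gg F N) • x = T.symm x := by
    intro x
    apply T.injective
    rw [← hgx, smul_smul, mul_comm, hinv, one_smul, T.apply_symm_apply]
  have hstst : ∀ a, invN F N (invN F N a) = a := st_st (gg_gen F N) hinv
  -- adjunction
  have hadj : ∀ (a : RR F N) (x y : V), B (a • x) y = B x (invN F N a • y) := by
    intro a
    obtain ⟨p, rfl⟩ := exists_aeval (gg_gen F N) a
    induction p using Polynomial.induction_on' with
    | add p q hp hq =>
      intro x y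
      rw [map_add, map_add, add_smul, add_smul, map_add, map_add, LinearMap.add_apply, hp, hq]
    | monomial n c =>
      have h1 : ∀ (m : ℕ) (x y : V), B (gg F N ^ m • x) y = B x (invN F N (gg F N) ^ m • y) := by
        intro m
        induction m with
        | zero => intro x y; rw [pow_zero, pow_zero, one_smul, one_smul]
        | succ m ih =>
          intro x y
          rw [pow_succ, mul_smul, ih, hgx, pow_succ', mul_smul, hstg, ← hBT x, T.apply_symm_apply]
      intro x y
      rw [aeval_monomial, map_mul, AlgHom.commutes, mul_smul, mul_smul, algebraMap_smul, algebraMap_smul,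
        bs₁, bs₂, map_pow, h1]
  have hQg : ∀ (m : ℕ) (y : V), Q (gg F N ^ m • y) = Q y := by
    intro m y
    induction m with
    | zero => rw [pow_zero, one_smul]
    | succ m ih => rw [pow_succ', mul_smul, hgx, hQT, ih]
  have hQs : ∀ (m : ℕ) (y : V), Q (invN F N (gg F N) ^ m • y) = Q y := by
    intro m y
    rw [← hQg m (invN F N (gg F N) ^ m • y), smul_smul, ← mul_pow, mul_comm, hinv, one_pow, one_smul]
  have hqst : ∀ (a : RR F N) (x : V), Q (a • x) = Q (invN F N a • x) := by
    intro a x
    obtain ⟨p, rfl⟩ := exists_aeval (gg_gen F N) a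
    induction p using Polynomial.induction_on' with
    | add p q hp hq =>
      rw [map_add, map_add, add_smul, add_smul, hadd, hadd, hp, hq]
      have h1 : κ * B (aeval (gg F N) p • x) (aeval (gg F N) q • x) =
          κ * B (invN F N (aeval (gg F N) p) • x) (invN F N (aeval (gg F N) q) • x) := by
        rw [hadj, hadj, hstst, smul_smul, smul_smul, hsymm x, ← mul_assoc, hκ, hadj, map_mul, hstst]
      rw [h1]
    | monomial n c =>
      rw [aeval_monomial, map_mul, AlgHom.commutes, mul_smul, mul_smul, algebraMap_smul, algebraMap_smul,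
        hsm, hsm, map_pow, hQg, hQs]
  have hF : Fm (invN F N) (gg F N) ε κ B Q :=
    { adj := hadj
      symm := hsymm
      qadd := hadd
      qst := hqst
      qg := fun x => by rw [hgx, hQT]
      qneg := fun x => by
        have := hsm (-1) x
        rw [neg_smul, one_smul] at this
        rw [this]; ring
      hε := hε
      hκ := hκ
      gen := gg_gen F N
      inv := hinv }
  obtain ⟨σ, hσ1, hσ2, hσ3, hσ4⟩ := good_all (finrank F V + 1) V B Q hF hnd (by omega)
  have hinj : Function.Injective σ := Good.inj hnd hsymm hσ2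
  refine ⟨LinearEquiv.ofInjectiveEndo σ hinj, ?_, ?_, ?_, ?_⟩
  · intro x
    show σ (T x) = T.symm (σ x)
    rw [← hgx, hσ1, hstg]
  · intro x y
    exact hσ2 x y
  · intro x
    exact hσ3 x
  · intro x
    exact hσ4 x

end Cfsg.Agent.H976.Inv
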