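import Mathlib

/-!
# Isometries are inverted by (anti-)isometries: algebra

`Dich π`: `π` divides `a` or is coprime to `a`, for every `a`.  `Fm`: an `R`-module `V` with an
`ε`-symmetric form `B` for which the adjoint of `a` is `st a`, and a quadratic map `Q`.
`Good`: there is a `st`-semilinear map `σ` with `B (σ x) (σ y) = B y x`, `Q (σ x) = Q x` and `σ ^ 2 = 1`.
-/

set_option autoImplicit false

namespace Cfsg.Agent.H976.Inv

open Polynomial Module

section Ring

variable {R : Type*} [CommRing R]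

/-- `π` divides `a` or is coprime to `a`, for every `a`. -/
def Dich (π : R) : Prop := ∀ a : R, π ∣ a ∨ IsCoprime π a

theorem Dich.val {π : R} (h : Dich π) : ∀ (k : ℕ) (a : R),
    π ^ (k + 1) ∣ a ∨ ∃ c e, c * a = π ^ k + π ^ (k + 1) * e := by
  intro k
  induction k with
  | zero =>
    intro a
    rcases h a with h1 | ⟨b, c, h1⟩
    · left; rwa [zero_add, pow_one]
    · right
      exact ⟨c, -b, by linear_combination h1⟩
  | succ k ih =>
    intro a
    rcases h a with ⟨a₁, rfl⟩ | h1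
    · rcases ih a₁ with ⟨a₂, rfl⟩ | ⟨c, e, h2⟩
      · left; exact ⟨a₂, by ring⟩
      · right; exact ⟨c, e, by linear_combination π * h2⟩
    · obtain ⟨b, c, h2⟩ := (h1.pow_left (m := k + 2))
      right
      exact ⟨π ^ (k + 1) * c, -(b * π ^ (k + 1)), by linear_combination π ^ (k + 1) * h2⟩

theorem Dich.val₂ {π : R} (h : Dich π) : ∀ (k : ℕ) (a b : R),
    (π ^ (k + 1) ∣ a ∧ π ^ (k + 1) ∣ b) ∨
    (∃ c e f, c * a = π ^ k + π ^ (k + 1) * e ∧ c * b = π ^ k * f) ∨
    (∃ c e f, c * b = π ^ k + π ^ (k + 1) * e ∧ c * a = π ^ k * f) := by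
  intro k
  induction k with
  | zero =>
    intro a b
    rcases h a with h1 | ⟨d, c, h1⟩
    · rcases h b with h2 | ⟨d, c, h2⟩
      · left; simpa using And.intro h1 h2
      · right; right
        exact ⟨c, -d, c * a, by linear_combination h2, by ring⟩
    · right; left
      exact ⟨c, -d, c * b, by linear_combination h1, by ring⟩
  | succ k ih =>
    intro a b
    by_cases ha : π ∣ a
    · by_cases hb : π ∣ b
      · obtain ⟨a₁, rfl⟩ := ha
        obtain ⟨b₁, rfl⟩ := hb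
        rcases ih a₁ b₁ with ⟨⟨a₂, rfl⟩, ⟨b₂, rfl⟩⟩ | ⟨c, e, f, h1, h2⟩ | ⟨c, e, f, h1, h2⟩
        · left; exact ⟨⟨a₂, by ring⟩, ⟨b₂, by ring⟩⟩
        · right; left
          exact ⟨c, e, f, by linear_combination π * h1, by linear_combination π * h2⟩
        · right; right
          exact ⟨c, e, f, by linear_combination π * h1, by linear_combination π * h2⟩
      · obtain ⟨d, c, h2⟩ := (((h b).resolve_left hb).pow_left (m := k + 2))
        right; right
        exact ⟨π ^ (k + 1) * c, -(d * π ^ (k + 1)), c * a, by linear_combination π ^ (k + 1) * h2, by ring⟩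
    · obtain ⟨d, c, h2⟩ := (((h a).resolve_left ha).pow_left (m := k + 2))
      right; left
      exact ⟨π ^ (k + 1) * c, -(d * π ^ (k + 1)), c * b, by linear_combination π ^ (k + 1) * h2, by ring⟩

variable {F : Type*} [Field F] [Algebra F R]

theorem exists_aeval {g : R} (hgen : Algebra.adjoin F {g} = ⊤) (a : R) : ∃ h : F[X], aeval g h = a := by
  have h1 : a ∈ Algebra.adjoin F {g} := by rw [hgen]; trivial
  rw [Algebra.adjoin_singleton_eq_range_aeval] at h1
  exact h1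

theorem dich_of_irreducible {g : R} (hgen : Algebra.adjoin F {g} = ⊤) {f : F[X]} (hf : Irreducible f) :
    Dich (aeval g f) := by
  intro a
  obtain ⟨h, rfl⟩ := exists_aeval hgen a
  rcases hf.isCoprime_or_dvd h with h1 | h1
  · right
    obtain ⟨u, w, h2⟩ := h1
    refine ⟨aeval g u, aeval g w, ?_⟩
    rw [← map_mul, ← map_mul, ← map_add, h2, map_one]
  · left
    exact map_dvd _ h1

theorem st_st {g : R} (hgen : Algebra.adjoin F {g} = ⊤) {st : R →ₐ[F] R} (hst : st g * g = 1) (a : R) :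
    st (st a) = a := by
  have h1 : st (st g) = g := by
    have h2 : st (st g) * st g = 1 := by rw [← map_mul, hst, map_one]
    calc st (st g) = st (st g) * (st g * g) := by rw [hst, mul_one]
      _ = (st (st g) * st g) * g := by ring
      _ = g := by rw [h2, one_mul]
  obtain ⟨p, rfl⟩ := exists_aeval hgen a
  rw [← aeval_algHom_apply, ← aeval_algHom_apply, h1]

theorem dich_sub_one {g : R} (hgen : Algebra.adjoin F {g} = ⊤) : Dich (g - 1) := by
  have h1 := dich_of_irreducible hgen (irreducible_X_sub_C (1 : F))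
  rwa [map_sub, aeval_X, aeval_C, map_one] at h1

theorem gen_neg {g : R} (hgen : Algebra.adjoin F {g} = ⊤) : Algebra.adjoin F {-g} = ⊤ := by
  rw [eq_top_iff, ← hgen]
  apply Algebra.adjoin_le
  rintro x rfl
  have h1 : -x ∈ Algebra.adjoin F {-x} := Algebra.subset_adjoin rfl
  have h2 := neg_mem h1
  rwa [neg_neg] at h2

/-- every element is a polynomial in `g - 1` -/
theorem gen_sub_one {g : R} (hgen : Algebra.adjoin F {g} = ⊤) : Algebra.adjoin F {g - 1} = ⊤ := by
  rw [eq_top_iff, ← hgen]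
  apply Algebra.adjoin_le
  rintro x rfl
  have h1 : x - 1 ∈ Algebra.adjoin F {x - 1} := Algebra.subset_adjoin rfl
  have h2 := add_mem h1 (one_mem _)
  rwa [sub_add_cancel] at h2

end Ring

section Form

variable {F : Type*} [Field F] {R : Type*} [CommRing R] [Algebra F R]

/-- Form data on an `R`-module. -/
structure Fm {V : Type*} [AddCommGroup V] [Module F V] [Module R V]
    (st : R →ₐ[F] R) (g : R) (ε κ : F) (B : V →ₗ[F] V →ₗ[F] F) (Q : V → F) : Prop where
  adj : ∀ (a : R) (x y : V), B (a • x) y = B x (st a • y)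
  symm : ∀ x y, B x y = ε * B y x
  qadd : ∀ x y, Q (x + y) = Q x + Q y + κ * B x y
  qst : ∀ (a : R) (x : V), Q (a • x) = Q (st a • x)
  qg : ∀ x : V, Q (g • x) = Q x
  qneg : ∀ x : V, Q (-x) = Q x
  hε : ε * ε = 1
  hκ : κ * ε = κ
  gen : Algebra.adjoin F {g} = ⊤
  inv : st g * g = 1

/-- non-degenerate -/
def Nd {V : Type*} [AddCommGroup V] [Module F V] (B : V →ₗ[F] V →ₗ[F] F) : Prop :=
  ∀ x, (∀ y, B x y = 0) → x = 0

/-- there is a semilinear (anti-)isometry -/
def Good {V : Type*} [AddCommGroup V] [Module F V] [Module R V]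
    (st : R →ₐ[F] R) (B : V →ₗ[F] V →ₗ[F] F) (Q : V → F) : Prop :=
  ∃ σ : V →ₗ[F] V, (∀ (a : R) (x : V), σ (a • x) = st a • σ x) ∧ (∀ x y, B (σ x) (σ y) = B y x) ∧
    (∀ x, Q (σ x) = Q x) ∧ ∀ x, σ (σ x) = x

variable {V : Type*} [AddCommGroup V] [Module F V] [Module R V] 
  {st : R →ₐ[F] R} {g : R} {ε κ : F} {B : V →ₗ[F] V →ₗ[F] F} {Q : V → F}

theorem Fm.q0 (h : Fm st g ε κ B Q) : Q 0 = 0 := by
  have h1 := h.qadd 0 0
  rw [add_zero, map_zero, mul_zero, add_zero] at h1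
  linear_combination -h1

theorem Fm.stst (h : Fm st g ε κ B Q) (a : R) : st (st a) = a := st_st h.gen h.inv a

theorem Fm.neg (h : Fm st g ε κ B Q) : Fm st (-g) ε κ B Q where
  adj := h.adj
  symm := h.symm
  qadd := h.qadd
  qst := h.qst
  qg x := by rw [neg_smul, h.qneg, h.qg]
  qneg := h.qneg
  hε := h.hε
  hκ := h.hκ
  gen := gen_neg h.gen
  inv := by rw [map_neg, neg_mul_neg, h.inv]

/-- construction of `σ` from a cover -/
theorem good_of_cover {X : Type*} [AddCommGroup X] [Module F X] [SMul R X] (ρ ρ' : X →ₗ[F] V)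
    (hρ : ∀ (a : R) (ξ : X), ρ (a • ξ) = a • ρ ξ) (hρ' : ∀ (a : R) (ξ : X), ρ' (a • ξ) = st a • ρ' ξ)
    (hs : Function.Surjective ρ) (hi : ∀ ξ, ∃ η, ρ η = ρ' ξ ∧ ρ' η = ρ ξ)
    (hB : ∀ ξ η, B (ρ' ξ) (ρ' η) = B (ρ η) (ρ ξ)) (hQ : ∀ ξ, Q (ρ' ξ) = Q (ρ ξ)) (hnd : Nd B) :
    Good st B Q := by
  have hs' : Function.Surjective ρ' := by
    intro x
    obtain ⟨ξ, rfl⟩ := hs x
    obtain ⟨η, -, hη⟩ := hi ξ
    exact ⟨η, hη⟩
  have hker : ∀ ξ, ρ ξ = 0 → ρ' ξ = 0 := by
    intro ξ h0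
    apply hnd
    intro y
    obtain ⟨η, rfl⟩ := hs' y
    rw [hB, h0, map_zero]
  obtain ⟨s, hs1⟩ := LinearMap.exists_rightInverse_of_surjective ρ (LinearMap.range_eq_top.2 hs)
  have hs2 : ∀ x, ρ (s x) = x := fun x => LinearMap.congr_fun hs1 x
  have key : ∀ ξ, ρ' (s (ρ ξ)) = ρ' ξ := by
    intro ξ
    have h1 : ρ (s (ρ ξ) - ξ) = 0 := by rw [map_sub, hs2, sub_self]
    have h2 := hker _ h1
    rwa [map_sub, sub_eq_zero] at h2
  refine ⟨ρ' ∘ₗ s, ?_, ?_, ?_, ?_⟩
  · intro a x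
    obtain ⟨ξ, rfl⟩ := hs x
    show ρ' (s (a • ρ ξ)) = st a • ρ' (s (ρ ξ))
    rw [← hρ, key, key, hρ']
  · intro x y
    obtain ⟨ξ, rfl⟩ := hs x
    obtain ⟨η, rfl⟩ := hs y
    show B (ρ' (s (ρ ξ))) (ρ' (s (ρ η))) = _
    rw [key, key, hB]
  · intro x
    obtain ⟨ξ, rfl⟩ := hs x
    show Q (ρ' (s (ρ ξ))) = _
    rw [key, hQ]
  · intro x
    obtain ⟨ξ, rfl⟩ := hs x
    obtain ⟨η, h1, h2⟩ := hi ξ
    show ρ' (s (ρ' (s (ρ ξ)))) = _
    rw [key, ← h1, key, h2]

theorem Good.inj {B : V →ₗ[F] V →ₗ[F] F} (hnd : Nd B) {ε : F} (hsym : ∀ x y, B x y = ε * B y x)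
    {σ : V →ₗ[F] V} (hσ : ∀ x y, B (σ x) (σ y) = B y x) : Function.Injective σ := by
  rw [injective_iff_map_eq_zero]
  intro x hx
  apply hnd
  intro y
  rw [hsym, ← hσ x y, hx, map_zero, LinearMap.zero_apply, mul_zero]

end Form

end Cfsg.Agent.H976.Inv
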