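import Cfsg.Agent.H976.Inv.Swap

/-!
# Every isometry is inverted by an (anti-)isometry
-/

set_option autoImplicit false

namespace Cfsg.Agent.H976.Inv

open Module Polynomial

universe u

section Single

variable {F : Type*} [Field F] {R : Type*} [CommRing R] [Algebra F R]
variable {V : Type*} [AddCommGroup V] [Module F V] [Module R V] [IsScalarTower F R V]
  {st : R →ₐ[F] R} {g : R} {ε κ : F} {B : V →ₗ[F] V →ₗ[F] F} {Q : V → F}

/-- last power of a nilpotent element -/
theorem exists_last {π : R} (hnt : ∃ x : V, x ≠ 0) (hn : ∃ n, ∀ x : V, π ^ n • x = 0) :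
    ∃ k, (∀ x : V, π ^ (k + 1) • x = 0) ∧ ∃ x : V, π ^ k • x ≠ 0 := by
  classical
  have h1 := Nat.find_spec hn
  have h0 : Nat.find hn ≠ 0 := by
    intro h2
    rw [h2] at h1
    obtain ⟨x, hx⟩ := hnt
    apply hx
    have := h1 x
    rwa [pow_zero, one_smul] at this
  obtain ⟨k, hk⟩ := Nat.exists_eq_succ_of_ne_zero h0
  refine ⟨k, ?_, ?_⟩
  · rw [hk] at h1; exact h1
  · by_contra hcon
    push Not at hcon
    have := Nat.find_min hn (m := k) (by omega)
    exact this hcon

theorem cyclic_piece (h : Fm st g ε κ B Q) {π : R} (hπ : Dich π) {k : ℕ} (hk : ∀ x : V, π ^ (k + 1) • x = 0)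
    {x : V} {b : R} (hx : B (π ^ k • x) (b • x) ≠ 0) :
    ∃ U : Submodule R V, U ≠ ⊥ ∧ Nd (rB B U) ∧ Good st (rB B U) (rQ Q U) := by
  refine ⟨LinearMap.range (cyc (R := R) x), ?_, nd_cyclic h hπ hk hx, good_cyclic h x (nd_cyclic h hπ hk hx)⟩
  intro hbot
  have h1 : x ∈ LinearMap.range (cyc (R := R) x) := ⟨1, by rw [cyc_apply, one_smul]⟩
  rw [hbot, Submodule.mem_bot] at h1
  rw [h1, smul_zero, map_zero, LinearMap.zero_apply] at hx
  exact hx rfl

theorem unip_piece (h : Fm st g ε κ B Q) (hnd : Nd B) (hnt : ∃ x : V, x ≠ 0)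
    (hn : ∃ n, ∀ x : V, (g - 1) ^ n • x = 0) :
    ∃ U : Submodule R V, U ≠ ⊥ ∧ Nd (rB B U) ∧ Good st (rB B U) (rQ Q U) := by
  obtain ⟨k, hk, v, hv⟩ := exists_last hnt hn
  by_cases hx : ∃ (x : V) (b : R), B ((g - 1) ^ k • x) (b • x) ≠ 0
  · obtain ⟨x, b, hx⟩ := hx
    exact cyclic_piece h (dich_sub_one h.gen) hk hx
  · push Not at hx
    obtain ⟨w, hw1, hw2⟩ := exists_dualvec h hnd hk hv k le_rfl
    have hw : ∀ i, i < k → B ((g - 1) ^ i • v) w = 0 := fun i hi => hw2 i (by omega) hi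
    obtain ⟨h1, h2⟩ := unip_pair h hk hx hw1 hw
    refine ⟨_, ?_, h1, h2⟩
    intro hbot
    have h3 : v ∈ LinearMap.range (pr (R := R) v w) := ⟨(1, 0), by rw [pr_apply, one_smul, zero_smul, add_zero]⟩
    rw [hbot, Submodule.mem_bot] at h3
    rw [h3, smul_zero] at hv
    exact hv rfl

/-- there is an irreducible polynomial in `g` which is not injective -/
theorem exists_irreducible [FiniteDimensional F V] (hnt : ∃ x : V, x ≠ 0) (g : R) :
    ∃ f : F[X], Irreducible f ∧ ∃ x : V, x ≠ 0 ∧ aeval g f • x = 0 := by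
  have : Nontrivial V := by
    obtain ⟨x, hx⟩ := hnt
    exact ⟨⟨x, 0, hx⟩⟩
  let L : Module.End F V := Algebra.lsmul F F V g
  have hL : ∀ (p : F[X]) (x : V), aeval L p x = aeval g p • x := by
    intro p x
    have : aeval L p = Algebra.lsmul F F V (aeval g p) := by
      rw [← aeval_algHom_apply]
    rw [this]; rfl
  have hint : IsIntegral F L := Algebra.IsIntegral.isIntegral L
  obtain ⟨f, hf, q, hq⟩ := WfDvdMonoid.exists_irreducible_factor (minpoly.not_isUnit F L) (minpoly.ne_zero hint)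
  refine ⟨f, hf, ?_⟩
  by_contra hcon
  push Not at hcon
  have h1 : aeval L q = 0 := by
    apply LinearMap.ext
    intro x
    rw [LinearMap.zero_apply, hL]
    by_contra h2
    have h3 := hcon _ h2
    apply h3
    rw [smul_smul, ← map_mul, ← hq, ← hL, minpoly.aeval, LinearMap.zero_apply]
  obtain ⟨r, hr⟩ := minpoly.dvd F L h1
  have hq0 : q ≠ 0 := by
    rintro rfl
    rw [mul_zero] at hq
    exact minpoly.ne_zero hint hq
  have h2 : q * (f * r) = q * 1 := by
    rw [mul_one]
    calc q * (f * r) = (f * q) * r := by ring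
      _ = q := by rw [← hq, ← hr]
  exact hf.not_isUnit (IsUnit.of_mul_eq_one _ (mul_left_cancel₀ hq0 h2))

/-- Fitting: a symmetric element which is neither injective nor nilpotent splits the space -/
theorem fitting_piece [FiniteDimensional F V] (h : Fm st g ε κ B Q) (hnd : Nd B) {a : R} (ha : st a = a)
    (h1 : ∃ x : V, x ≠ 0 ∧ a • x = 0) (h2 : ¬ ∃ n, ∀ x : V, a ^ n • x = 0) :
    ∃ U : Submodule R V, U ≠ ⊥ ∧ Nd (rB B U) ∧ U ≠ ⊤ := by
  let L : Module.End F V := Algebra.lsmul F F V a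
  have hL : ∀ (n : ℕ) (x : V), (L ^ n) x = a ^ n • x := by
    intro n x
    have : L ^ n = Algebra.lsmul F F V (a ^ n) := by rw [map_pow]
    rw [this]; rfl
  obtain ⟨n, hn⟩ := Filter.eventually_atTop.1 (LinearMap.eventually_isCompl_ker_pow_range_pow L)
  have hc := hn (n + 1) (by omega)
  let U : Submodule R V :=
    { carrier := {x | a ^ (n + 1) • x = 0}
      add_mem' := by
        intro x y hx hy
        rw [Set.mem_setOf_eq] at hx hy ⊢
        rw [smul_add, hx, hy, add_zero]
      zero_mem' := smul_zero _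
      smul_mem' := by
        intro c x hx
        rw [Set.mem_setOf_eq] at hx ⊢
        rw [smul_comm, hx, smul_zero] }
  have hU : ∀ x, x ∈ U ↔ a ^ (n + 1) • x = 0 := fun x => Iff.rfl
  refine ⟨U, ?_, ?_, ?_⟩
  · intro hbot
    obtain ⟨x, hx0, hx⟩ := h1
    apply hx0
    have h3 : x ∈ U := by rw [hU, pow_succ, mul_smul, hx, smul_zero]
    rwa [hbot, Submodule.mem_bot] at h3
  · intro x hx
    apply Subtype.ext
    apply hnd
    intro y
    have h3 : y ∈ LinearMap.ker (L ^ (n + 1)) ⊔ LinearMap.range (L ^ (n + 1)) := by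
      rw [hc.sup_eq_top]; trivial
    obtain ⟨y₁, hy₁, _, ⟨y₂, rfl⟩, rfl⟩ := Submodule.mem_sup.1 h3
    rw [LinearMap.mem_ker, hL] at hy₁
    have h4 : B (x : V) y₁ = 0 := hx ⟨y₁, hy₁⟩
    rw [map_add, h4, hL, h.adj', map_pow, ha, (hU _).1 x.2, map_zero, LinearMap.zero_apply, add_zero]
  · intro htop
    apply h2
    refine ⟨n + 1, fun x => ?_⟩
    rw [← hU, htop]; trivial

end Single

variable {F : Type*} [Field F] {R : Type*} [CommRing R] [Algebra F R]

/-- MAIN THEOREM -/
theorem good_all {st : R →ₐ[F] R} {g : R} {ε κ : F} (n : ℕ) : ∀ (V : Type u) [AddCommGroup V] [Module F V] [Module R V]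
    [IsScalarTower F R V] [FiniteDimensional F V] (B : V →ₗ[F] V →ₗ[F] F) (Q : V → F),
    Fm st g ε κ B Q → Nd B → finrank F V < n → Good st B Q := by
  induction n with
  | zero => intro V _ _ _ _ _ B Q h hnd hlt; omega
  | succ n ih =>
    intro V _ _ _ _ _ B Q h hnd hlt
    have IH : ∀ U : Submodule R V, finrank F U < finrank F V → Nd (rB B U) → Good st (rB B U) (rQ Q U) := by
      intro U hU hUn
      have := finite_sub (F := F) U
      exact ih U (rB B U) (rQ Q U) (h.restrict U) hUn (by omega)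
    by_cases hnt : ∃ x : V, x ≠ 0
    swap
    · push Not at hnt
      refine ⟨0, fun a x => ?_, fun x y => ?_, fun x => ?_, fun x => by rw [hnt x, map_zero]; rfl⟩
      · rw [LinearMap.zero_apply, LinearMap.zero_apply, smul_zero]
      · rw [hnt x, hnt y, map_zero]
      · rw [hnt x, map_zero]
    apply good_of_piece h hnd IH
    -- Fitting
    by_cases hfit : ∃ a : R, st a = a ∧ (∃ x : V, x ≠ 0 ∧ a • x = 0) ∧ ¬ ∃ n, ∀ x : V, a ^ n • x = 0
    · obtain ⟨a, ha, h1, h2⟩ := hfit
      obtain ⟨U, hU0, hUn, hUt⟩ := fitting_piece h hnd ha h1 h2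
      exact ⟨U, hU0, hUn, Or.inl hUt⟩
    have hR1 : ∀ a : R, st a = a → (∃ x : V, x ≠ 0 ∧ a • x = 0) → ∃ n, ∀ x : V, a ^ n • x = 0 := by
      intro a ha h1
      by_contra h2
      exact hfit ⟨a, ha, h1, h2⟩
    suffices hs : ∃ U : Submodule R V, U ≠ ⊥ ∧ Nd (rB B U) ∧ Good st (rB B U) (rQ Q U) by
      obtain ⟨U, hU0, hUn, hUg⟩ := hs
      exact ⟨U, hU0, hUn, Or.inr hUg⟩
    have hinv := h.inv
    -- unipotent case, for any generator
    have hun : ∀ g' : R, Fm st g' ε κ B Q → (∃ x : V, x ≠ 0 ∧ (g' - 1) • x = 0) →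
        ∃ U : Submodule R V, U ≠ ⊥ ∧ Nd (rB B U) ∧ Good st (rB B U) (rQ Q U) := by
      intro g' h' hx
      have hinv' := h'.inv
      obtain ⟨n, hn⟩ := hR1 (g' + st g' - 2) (by
        rw [map_sub, map_add, h'.stst, map_ofNat, add_comm (st g')]) (by
        obtain ⟨x, hx0, hx⟩ := hx
        refine ⟨x, hx0, ?_⟩
        have h1 : g' + st g' - 2 = st g' * (g' - 1) * (g' - 1) := by linear_combination (g' - 2) * -hinv'
        rw [h1, mul_smul, hx, smul_zero])
      apply unip_piece h' hnd hnt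
      refine ⟨2 * n, fun x => ?_⟩
      have h1 : (g' - 1) ^ (2 * n) = g' ^ n * (g' + st g' - 2) ^ n := by
        rw [← mul_pow, pow_mul]
        congr 1
        linear_combination (-1 : R) * hinv'
      rw [h1, mul_smul, hn, smul_zero]
    by_cases hg1 : ∃ x : V, x ≠ 0 ∧ (g - 1) • x = 0
    · exact hun g h hg1
    by_cases hg2 : ∃ x : V, x ≠ 0 ∧ (-g - 1) • x = 0
    · exact hun (-g) h.neg hg2
    have hg1' : ∀ x : V, (g - 1) • x = 0 → x = 0 := fun x hx => by
      by_contra h0; exact hg1 ⟨x, h0, hx⟩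
    have hg2' : ∀ x : V, (-g - 1) • x = 0 → x = 0 := fun x hx => by
      by_contra h0; exact hg2 ⟨x, h0, hx⟩
    obtain ⟨f, hf, x₀, hx₀, hfx₀⟩ := exists_irreducible (F := F) hnt g
    have hπ := dich_of_irreducible h.gen hf
    obtain ⟨π, hπ'⟩ : ∃ π, π = aeval g f := ⟨_, rfl⟩
    rw [← hπ'] at hπ hfx₀
    obtain ⟨n, hn⟩ := hR1 (π * st π) (by rw [map_mul, h.stst, mul_comm]) ⟨x₀, hx₀, by
      rw [mul_comm, mul_smul, hfx₀, smul_zero]⟩
    rcases hπ (st π) with ⟨b, hb⟩ | hc
    · -- local case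
      have hpn : ∃ m, ∀ x : V, π ^ m • x = 0 := by
        refine ⟨2 * n, fun x => ?_⟩
        have h1 : π = st π * st b := by
          have := congrArg st hb
          rwa [h.stst, map_mul] at this
        have h2 : π ^ (2 * n) = st b ^ n * (π * st π) ^ n := by
          rw [← mul_pow, pow_mul]
          congr 1
          calc π ^ 2 = π * π := by ring
            _ = π * (st π * st b) := by rw [← h1]
            _ = _ := by ring
        rw [h2, mul_smul, hn, smul_zero]
      obtain ⟨k, hk, v, hv⟩ := exists_last hnt hpn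
      by_cases hx : ∃ (x : V) (b : R), B (π ^ k • x) (b • x) ≠ 0
      · obtain ⟨x, b, hx⟩ := hx
        exact cyclic_piece h hπ hk hx
      · exfalso
        push Not at hx
        have h1 := alt_of_not h hnd hx g v
        have h2 : st g - g = st g * ((g - 1) * (-g - 1)) := by linear_combination g * hinv
        rw [h2, mul_smul, mul_smul] at h1
        have h3 : ∀ y : V, st g • y = 0 → y = 0 := by
          intro y hy
          have : g • st g • y = y := by rw [smul_smul, mul_comm, hinv, one_smul]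
          rw [← this, hy, smul_zero]
        exact hv (hg2' _ (hg1' _ (h3 _ h1)))
    · exact swap_piece h hnd hπ hc hn hnt hg1'

end Cfsg.Agent.H976.Inv
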