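import Cfsg.Agent.H976.Inv.Split

/-!
# The pieces: cyclic, unipotent pair, swapped pair
-/

set_option autoImplicit false

namespace Cfsg.Agent.H976.Inv

open Module

variable {F : Type*} [Field F] {R : Type*} [CommRing R] [Algebra F R]
variable {V : Type*} [AddCommGroup V] [Module F V] [Module R V] [IsScalarTower F R V]
  {st : R →ₐ[F] R} {g : R} {ε κ : F} {B : V →ₗ[F] V →ₗ[F] F} {Q : V → F}

theorem good_range {X : Type*} [AddCommGroup X] [Module F X] [Module R X] [IsScalarTower F R X]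
    (φ : X →ₗ[R] V) (φ' : X →ₗ[F] V) (hφ' : ∀ (a : R) (ξ : X), φ' (a • ξ) = st a • φ' ξ)
    (hi : ∀ ξ, ∃ η, φ η = φ' ξ ∧ φ' η = φ ξ)
    (hB : ∀ ξ η, B (φ' ξ) (φ' η) = B (φ η) (φ ξ)) (hQ : ∀ ξ, Q (φ' ξ) = Q (φ ξ))
    (hnd : Nd (rB B (LinearMap.range φ))) :
    Good st (rB B (LinearMap.range φ)) (rQ Q (LinearMap.range φ)) := by
  let ρ : X →ₗ[F] LinearMap.range φ := φ.rangeRestrict.restrictScalars F
  let ρ' : X →ₗ[F] LinearMap.range φ :=
    { toFun := fun ξ => ⟨φ' ξ, (hi ξ).imp fun _ h => h.1⟩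
      map_add' := fun ξ η => Subtype.ext (map_add φ' ξ η)
      map_smul' := fun c ξ => Subtype.ext (map_smul φ' c ξ) }
  refine good_of_cover ρ ρ' ?_ ?_ ?_ ?_ ?_ ?_ hnd
  · intro a ξ
    exact Subtype.ext (map_smul φ a ξ)
  · intro a ξ
    exact Subtype.ext (hφ' a ξ)
  · exact φ.surjective_rangeRestrict
  · intro ξ
    obtain ⟨η, h1, h2⟩ := hi ξ
    exact ⟨η, Subtype.ext h1, Subtype.ext h2⟩
  · intro ξ η
    exact hB ξ η
  · intro ξ
    exact hQ ξ

/-- `a ↦ a • x` -/
abbrev cyc (x : V) : R →ₗ[R] V := LinearMap.toSpanSingleton R V x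

/-- `(a, b) ↦ a • v + b • w` -/
abbrev pr (v w : V) : (R × R) →ₗ[R] V :=
  (LinearMap.toSpanSingleton R V v).coprod (LinearMap.toSpanSingleton R V w)

theorem cyc_apply (x : V) (a : R) : cyc x a = a • x := rfl

theorem pr_apply (v w : V) (a : R × R) : pr v w a = a.1 • v + a.2 • w := rfl

theorem good_cyclic (h : Fm st g ε κ B Q) (x : V) (hnd : Nd (rB B (LinearMap.range (cyc (R := R) x)))) :
    Good st (rB B (LinearMap.range (cyc (R := R) x))) (rQ Q (LinearMap.range (cyc (R := R) x))) := by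
  refine good_range (cyc x) (((cyc (R := R) x).restrictScalars F) ∘ₗ st.toLinearMap) ?_ ?_ ?_ ?_ hnd
  · intro a ξ
    show st (a * ξ) • x = st a • st ξ • x
    rw [map_mul, mul_smul]
  · intro ξ
    refine ⟨st ξ, rfl, ?_⟩
    show st (st ξ) • x = ξ • x
    rw [h.stst]
  · intro ξ η
    show B (st ξ • x) (st η • x) = B (η • x) (ξ • x)
    rw [h.adj, h.stst, h.adj, smul_smul, smul_smul, mul_comm]
  · intro ξ
    exact (h.qst ξ x).symm

theorem nd_cyclic (h : Fm st g ε κ B Q) {π : R} (hπ : Dich π) {k : ℕ} (hk : ∀ x : V, π ^ (k + 1) • x = 0) {x : V}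
    {b : R} (hx : B (π ^ k • x) (b • x) ≠ 0) : Nd (rB B (LinearMap.range (cyc (R := R) x))) := by
  rintro ⟨_, a, rfl⟩ hy
  apply Subtype.ext
  show a • x = 0
  rcases hπ.val k a with ⟨c, rfl⟩ | ⟨c, e, h1⟩
  · rw [mul_smul, hk]
  · exfalso
    apply hx
    have h2 : B (a • x) (st c • b • x) = 0 := hy ⟨st c • b • x, (st c * b), by rw [cyc_apply, mul_smul]⟩
    rw [← h.adj, smul_smul, h1, add_smul, mul_comm, mul_smul, hk, smul_zero, add_zero] at h2
    exact h2

/-- if no vector generates a non-degenerate submodule then the involution is trivial on the residue field -/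
theorem alt_of_not (h : Fm st g ε κ B Q) (hnd : Nd B) {π : R} {k : ℕ}
    (hx : ∀ (x : V) (b : R), B (π ^ k • x) (b • x) = 0) (c : R) (x : V) : (st c - c) • π ^ k • x = 0 := by
  have hpol : ∀ (x y : V) (b : R), B (π ^ k • x) (b • y) + B (π ^ k • y) (b • x) = 0 := by
    intro x y b
    have h1 := hx (x + y) b
    rw [smul_add, smul_add, map_add, map_add, LinearMap.add_apply, LinearMap.add_apply, hx, hx] at h1
    linear_combination h1
  apply hnd
  intro y
  rw [h.adj, map_sub, h.stst, sub_smul, map_sub]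
  have h1 := hpol x (c • y) 1
  rw [one_smul, one_smul, smul_comm (π ^ k) c y, h.adj c] at h1
  have h2 := hpol y x (st c)
  linear_combination h1 - h2

end Cfsg.Agent.H976.Inv
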