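import Cfsg.Agent.H976.Inv.Basic

/-!
# Orthogonal splitting
-/

set_option autoImplicit false

namespace Cfsg.Agent.H976.Inv

open Module

variable {F : Type*} [Field F] {R : Type*} [CommRing R] [Algebra F R]
variable {V : Type*} [AddCommGroup V] [Module F V] [Module R V] [IsScalarTower F R V]
  {st : R →ₐ[F] R} {g : R} {ε κ : F} {B : V →ₗ[F] V →ₗ[F] F} {Q : V → F}

/-- inclusion of a submodule, as an `F`-linear map -/
abbrev inc (F : Type*) [Field F] {R : Type*} [CommRing R] [Algebra F R] {V : Type*} [AddCommGroup V] [Module F V]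
    [Module R V] [IsScalarTower F R V] (U : Submodule R V) : U →ₗ[F] V := U.subtype.restrictScalars F

/-- restriction of the bilinear form -/
abbrev rB (B : V →ₗ[F] V →ₗ[F] F) (U : Submodule R V) : U →ₗ[F] U →ₗ[F] F := B.compl₁₂ (inc F U) (inc F U)

/-- restriction of the quadratic form -/
abbrev rQ (Q : V → F) (U : Submodule R V) : U → F := fun x => Q x

theorem rB_apply (B : V →ₗ[F] V →ₗ[F] F) (U : Submodule R V) (x y : U) : rB B U x y = B x y := rfl

theorem Fm.restrict (h : Fm st g ε κ B Q) (U : Submodule R V) : Fm st g ε κ (rB B U) (rQ Q U) where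
  adj a x y := h.adj a x y
  symm x y := h.symm x y
  qadd x y := h.qadd x y
  qst a x := h.qst a x
  qg x := h.qg x
  qneg x := h.qneg x
  hε := h.hε
  hκ := h.hκ
  gen := h.gen
  inv := h.inv

/-- orthogonal complement -/
def perp (h : Fm st g ε κ B Q) (U : Submodule R V) : Submodule R V where
  carrier := {x | ∀ y ∈ U, B x y = 0}
  add_mem' := by
    intro x y hx hy z hz
    rw [map_add, LinearMap.add_apply, hx z hz, hy z hz, add_zero]
  zero_mem' := by
    intro z _
    rw [map_zero, LinearMap.zero_apply]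
  smul_mem' := by
    intro a x hx z hz
    rw [h.adj]
    exact hx _ (U.smul_mem _ hz)

theorem mem_perp {h : Fm st g ε κ B Q} {U : Submodule R V} {x : V} : x ∈ perp h U ↔ ∀ y ∈ U, B x y = 0 := Iff.rfl

theorem finite_sub [FiniteDimensional F V] (U : Submodule R V) : FiniteDimensional F U :=
  Module.Finite.of_injective (inc F U) (fun _ _ h => Subtype.ext h)

theorem exists_proj [FiniteDimensional F V] (h : Fm st g ε κ B Q) (U : Submodule R V) (hU : Nd (rB B U)) (x : V) :
    ∃ u : U, ∃ w : perp h U, (u : V) + w = x := by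
  have := finite_sub (F := F) U
  have hinj : Function.Injective (rB B U) := by
    rw [injective_iff_map_eq_zero]
    intro u hu
    apply hU
    intro y
    rw [hu, LinearMap.zero_apply]
  have hsurj : Function.Surjective (rB B U) := by
    have h1 : finrank F U = finrank F (Dual F U) := Subspace.dual_finrank_eq.symm
    exact (LinearMap.injective_iff_surjective_of_finrank_eq_finrank h1).1 hinj
  obtain ⟨u, hu⟩ := hsurj ((B x).comp (inc F U))
  refine ⟨u, ⟨x - u, ?_⟩, by simp⟩
  rw [mem_perp]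
  intro y hy
  have h2 := LinearMap.congr_fun hu ⟨y, hy⟩
  have h3 : B (u : V) y = B x y := h2
  rw [map_sub, LinearMap.sub_apply, h3, sub_self]

theorem nd_perp [FiniteDimensional F V] (h : Fm st g ε κ B Q) (hnd : Nd B) (U : Submodule R V) (hU : Nd (rB B U)) :
    Nd (rB B (perp h U)) := by
  intro x hx
  apply Subtype.ext
  apply hnd
  intro y
  obtain ⟨u, w, rfl⟩ := exists_proj h U hU y
  rw [map_add]
  have h1 : B (x : V) (u : V) = 0 := x.2 u u.2
  have h2 : B (x : V) (w : V) = 0 := hx w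
  rw [h1, h2, add_zero]

theorem good_of_split [FiniteDimensional F V] (h : Fm st g ε κ B Q) (hnd : Nd B) (U : Submodule R V) (hU : Nd (rB B U))
    (h1 : Good st (rB B U) (rQ Q U)) (h2 : Good st (rB B (perp h U)) (rQ Q (perp h U))) : Good st B Q := by
  have := finite_sub (F := F) U
  have := finite_sub (F := F) (perp h U)
  obtain ⟨σ, hσ1, hσ2, hσ3, hσ4⟩ := h1
  obtain ⟨τ, hτ1, hτ2, hτ3, hτ4⟩ := h2
  have horth : ∀ (u : U) (w : perp h U), B (w : V) (u : V) = 0 := fun u w => w.2 u u.2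
  have horth' : ∀ (u : U) (w : perp h U), B (u : V) (w : V) = 0 := fun u w => by rw [h.symm, horth, mul_zero]
  let ρ : (U × perp h U) →ₗ[F] V := (inc F U).coprod (inc F (perp h U))
  let ρ' : (U × perp h U) →ₗ[F] V := ((inc F U) ∘ₗ σ).coprod ((inc F (perp h U)) ∘ₗ τ)
  have e1 : ∀ ξ, ρ ξ = (ξ.1 : V) + (ξ.2 : V) := fun ξ => rfl
  have e2 : ∀ ξ, ρ' ξ = (σ ξ.1 : V) + (τ ξ.2 : V) := fun ξ => rfl
  refine good_of_cover ρ ρ' ?_ ?_ ?_ ?_ ?_ ?_ hnd
  · intro a ξ
    rw [e1, e1, smul_add]; rfl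
  · intro a ξ
    rw [e2, e2, smul_add, Prod.smul_fst, Prod.smul_snd, hσ1, hτ1]; rfl
  · intro x
    obtain ⟨u, w, rfl⟩ := exists_proj h U hU x
    exact ⟨(u, w), rfl⟩
  · intro ξ
    refine ⟨(σ ξ.1, τ ξ.2), rfl, ?_⟩
    rw [e2, e1, hσ4, hτ4]
  · intro ξ η
    rw [e1, e1, e2, e2]
    simp only [map_add, LinearMap.add_apply, horth, horth', add_zero, zero_add]
    have h3 := hσ2 ξ.1 η.1
    have h4 := hτ2 ξ.2 η.2
    rw [rB_apply, rB_apply] at h3 h4
    rw [h3, h4]
  · intro ξ
    rw [e1, e2, h.qadd, h.qadd, horth', horth']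
    have h3 := hσ3 ξ.1
    have h4 := hτ3 ξ.2
    simp only [rQ] at h3 h4
    rw [h3, h4]

/-- induction step -/
theorem good_of_piece [FiniteDimensional F V] (h : Fm st g ε κ B Q) (hnd : Nd B)
    (IH : ∀ U : Submodule R V, finrank F U < finrank F V → Nd (rB B U) → Good st (rB B U) (rQ Q U))
    (hU : ∃ U : Submodule R V, U ≠ ⊥ ∧ Nd (rB B U) ∧ (U ≠ ⊤ ∨ Good st (rB B U) (rQ Q U))) : Good st B Q := by
  obtain ⟨U, hU0, hUn, hUg⟩ := hU
  have hlt : ∀ W : Submodule R V, W ≠ ⊤ → finrank F W < finrank F V := by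
    intro W hW
    have h1 : finrank F W = finrank F (W.restrictScalars F) := rfl
    rw [h1]
    apply Submodule.finrank_lt
    intro h2
    apply hW
    rw [eq_top_iff]
    intro x _
    have : x ∈ W.restrictScalars F := by rw [h2]; trivial
    exact this
  have h1 : Good st (rB B U) (rQ Q U) := by
    rcases hUg with h1 | h1
    · exact IH U (hlt U h1) hUn
    · exact h1
  refine good_of_split h hnd U hUn h1 (IH _ (hlt _ ?_) (nd_perp h hnd U hUn))
  intro htop
  apply hU0
  rw [eq_bot_iff]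
  intro x hx
  rw [Submodule.mem_bot]
  have h2 : (⟨x, hx⟩ : U) = 0 := by
    apply hUn
    intro y
    have h3 : x ∈ perp h U := by rw [htop]; trivial
    exact h3 y y.2
  exact congrArg Subtype.val h2

end Cfsg.Agent.H976.Inv
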