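import Cfsg.Agent.H976.Inv.Pieces

/-!
# The unipotent piece
-/

set_option autoImplicit false

namespace Cfsg.Agent.H976.Inv

open Module Polynomial

variable {F : Type*} [Field F] {R : Type*} [CommRing R] [Algebra F R]
variable {V : Type*} [AddCommGroup V] [Module F V] [Module R V] [IsScalarTower F R V]
  {st : R →ₐ[F] R} {g : R} {ε κ : F} {B : V →ₗ[F] V →ₗ[F] F} {Q : V → F}

theorem bs₁ (c : F) (x y : V) : B (c • x) y = c * B x y := by
  rw [map_smul, LinearMap.smul_apply, smul_eq_mul]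

theorem bs₂ (c : F) (x y : V) : B x (c • y) = c * B x y := by
  rw [map_smul, smul_eq_mul]

/-- moving a scalar to the left -/
theorem Fm.adj' (h : Fm st g ε κ B Q) (a : R) (x y : V) : B x (a • y) = B (st a • x) y := by
  rw [h.adj, h.stst]

theorem exists_dualvec (h : Fm st g ε κ B Q) (hnd : Nd B) {s : R} {k : ℕ} (hk : ∀ x : V, s ^ (k + 1) • x = 0) {v : V}
    (hv : s ^ k • v ≠ 0) (j : ℕ) (hj : j ≤ k) :
    ∃ w, B (s ^ k • v) w = 1 ∧ ∀ i, k - j ≤ i → i < k → B (s ^ i • v) w = 0 := by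
  induction j with
  | zero =>
    by_contra hcon
    apply hv
    apply hnd
    intro y
    by_contra hy
    apply hcon
    refine ⟨(B (s ^ k • v) y)⁻¹ • y, ?_, fun i h1 h2 => by omega⟩
    rw [bs₂, inv_mul_cancel₀ hy]
  | succ j ih =>
    obtain ⟨w, hw1, hw2⟩ := ih (by omega)
    have hmv : ∀ i, B (s ^ i • v) ((st s ^ (j + 1)) • w) = B (s ^ (j + 1 + i) • v) w := by
      intro i
      rw [← map_pow, ← h.adj, smul_smul, ← pow_add]
    have hbig : ∀ i, k + 1 ≤ i → s ^ i • v = 0 := by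
      intro i hi
      obtain ⟨m, rfl⟩ := Nat.exists_eq_add_of_le hi
      rw [pow_add, mul_smul, hk]
    refine ⟨w - B (s ^ (k - (j + 1)) • v) w • (st s ^ (j + 1)) • w, ?_, ?_⟩
    · rw [map_sub, bs₂, hmv, hw1, hbig (j + 1 + k) (by omega), map_zero, LinearMap.zero_apply, mul_zero, sub_zero]
    · intro i h1 h2
      rw [map_sub, bs₂, hmv]
      rcases Nat.lt_or_ge (k - (j + 1)) i with h3 | h3
      · rw [hw2 i (by omega) h2, hbig (j + 1 + i) (by omega), map_zero, LinearMap.zero_apply, mul_zero, sub_zero]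
      · have h4 : i = k - (j + 1) := by omega
        have h5 : j + 1 + i = k := by omega
        rw [h5, hw1, mul_one, h4, sub_self]

theorem low {s : R} {k : ℕ} {v w : V} (hw : ∀ i, i < k → B (s ^ i • v) w = 0) (n : ℕ) :
    ∀ i, i + n < k → B ((s ^ i * (1 + s) ^ n) • v) w = 0 := by
  induction n with
  | zero =>
    intro i hi
    rw [pow_zero, mul_one]
    exact hw i (by omega)
  | succ n ih =>
    intro i hi
    have h1 : s ^ i * (1 + s) ^ (n + 1) = s ^ i * (1 + s) ^ n + s ^ (i + 1) * (1 + s) ^ n := by ring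
    rw [h1, add_smul, map_add, LinearMap.add_apply, ih i (by omega), ih (i + 1) (by omega), add_zero]

/-- the symmetry of the residue functional -/
theorem lam (h : Fm st g ε κ B Q) {k : ℕ} (hk : ∀ x : V, (g - 1) ^ (k + 1) • x = 0) {v w : V}
    (hw : ∀ i, i < k → B ((g - 1) ^ i • v) w = 0) (c : R) :
    B ((st c * (g ^ (k + 1) * st g ^ 2)) • v) w = (-1) ^ k * B (c • v) w := by
  have hinv := h.inv
  have hs : st (g - 1) = -(st g * (g - 1)) := by
    rw [map_sub, map_one]; linear_combination hinv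
  have hbig : ∀ (x : V) i, k + 1 ≤ i → (g - 1) ^ i • x = 0 := by
    intro x i hi
    obtain ⟨m, rfl⟩ := Nat.exists_eq_add_of_le hi
    rw [pow_add, mul_smul, hk]
  have hpw : ∀ m, st g ^ m * g ^ m = 1 := fun m => by rw [← mul_pow, hinv, one_pow]
  have hmon : ∀ i, B ((st ((g - 1) ^ i) * (g ^ (k + 1) * st g ^ 2)) • v) w
      = (-1) ^ k * B ((g - 1) ^ i • v) w := by
    intro i
    have h1 : st ((g - 1) ^ i) * (g ^ (k + 1) * st g ^ 2)
        = (algebraMap F R ((-1) ^ i)) * (st g ^ (i + 2) * g ^ (k + 1) * (g - 1) ^ i) := by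
      rw [map_pow, hs, neg_pow, mul_pow, map_pow, map_neg, map_one]
      ring
    rw [h1, mul_smul, algebraMap_smul, bs₁]
    rcases lt_trichotomy i k with h2 | h2 | h2
    · have h3 : st g ^ (i + 2) * g ^ (k + 1) = (1 + (g - 1)) ^ (k - 1 - i) := by
        have h4 : k + 1 = (i + 2) + (k - 1 - i) := by omega
        rw [h4, pow_add g, ← mul_assoc, hpw, one_mul]
        congr 1
        ring
      rw [h3, mul_comm ((1 + (g - 1)) ^ (k - 1 - i)), low hw _ i (by omega), hw i h2, mul_zero, mul_zero]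
    · subst h2
      have h3 : st g ^ (i + 2) * g ^ (i + 1) * (g - 1) ^ i = (g - 1) ^ i - st g * (g - 1) ^ (i + 1) := by
        have h4 : st g ^ (i + 2) * g ^ (i + 1) = st g := by
          rw [pow_succ, mul_assoc, mul_comm (st g), ← mul_assoc, hpw, one_mul]
        rw [h4]
        linear_combination (g - 1) ^ i * hinv
      rw [h3, sub_smul, mul_smul (st g), hk, smul_zero, sub_zero]
    · have h3 : (st g ^ (i + 2) * g ^ (k + 1) * (g - 1) ^ i) • v = 0 := by
        rw [mul_smul, hbig v i (by omega), smul_zero]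
      rw [h3, hbig v i (by omega), map_zero, LinearMap.zero_apply, mul_zero, mul_zero]
  obtain ⟨P, rfl⟩ := exists_aeval (gen_sub_one h.gen) c
  induction P using Polynomial.induction_on' with
  | add p q hp hq =>
    rw [map_add, map_add, add_mul, add_smul, add_smul, map_add, map_add, LinearMap.add_apply, LinearMap.add_apply,
      hp, hq, mul_add]
  | monomial n a =>
    have h1 : aeval (g - 1) (monomial n a) = algebraMap F R a * (g - 1) ^ n := by
      rw [aeval_monomial]
    rw [h1, map_mul, AlgHom.commutes, mul_assoc, mul_smul, algebraMap_smul, bs₁, hmon,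
      mul_smul, algebraMap_smul, bs₁]
    ring

theorem unip_pair (h : Fm st g ε κ B Q) {k : ℕ} (hk : ∀ x : V, (g - 1) ^ (k + 1) • x = 0)
    (hx : ∀ (x : V) (b : R), B ((g - 1) ^ k • x) (b • x) = 0) {v w : V}
    (hw1 : B ((g - 1) ^ k • v) w = 1) (hw : ∀ i, i < k → B ((g - 1) ^ i • v) w = 0) :
    Nd (rB B (LinearMap.range (pr (R := R) v w))) ∧
      Good st (rB B (LinearMap.range (pr (R := R) v w))) (rQ Q (LinearMap.range (pr (R := R) v w))) := by
  have hinv := h.inv
  have hε := h.hε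
  have hs : st (g - 1) = -(st g * (g - 1)) := by
    rw [map_sub, map_one]; linear_combination hinv
  have hpw : ∀ m, st g ^ m * g ^ m = 1 := fun m => by rw [← mul_pow, hinv, one_pow]
  have hnd : Nd (rB B (LinearMap.range (pr (R := R) v w))) := by
    rintro ⟨_, ⟨a, b⟩, rfl⟩ hy
    apply Subtype.ext
    show a • v + b • w = 0
    have hy' : ∀ c d : R, B (a • v + b • w) (c • v + d • w) = 0 := fun c d => hy ⟨c • v + d • w, (c, d), rfl⟩
    rcases (dich_sub_one h.gen).val₂ k a b with ⟨⟨a₁, rfl⟩, ⟨b₁, rfl⟩⟩ | ⟨c, e, f, h1, h2⟩ | ⟨c, e, f, h1, h2⟩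
    · rw [mul_smul, mul_smul, hk, hk, add_zero]
    · exfalso
      have h3 := hy' 0 (st c)
      rw [zero_smul, zero_add, ← h.adj, smul_add, smul_smul, smul_smul, h1, h2, add_smul, mul_smul, hk, add_zero,
        mul_smul, map_add, LinearMap.add_apply, hw1] at h3
      have h4 : B ((g - 1) ^ k • f • w) w = 0 := by
        have h5 := hx w (st f)
        rwa [← h.adj, smul_comm] at h5
      rw [h4, add_zero] at h3
      exact one_ne_zero h3
    · exfalso
      have h3 := hy' (st c) 0
      rw [zero_smul, add_zero, ← h.adj, smul_add, smul_smul, smul_smul, h1, h2, add_smul, mul_smul, mul_smul, hk,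
        add_zero, map_add, LinearMap.add_apply] at h3
      have h4 : B ((g - 1) ^ k • f • v) v = 0 := by
        have h5 := hx v (st f)
        rwa [← h.adj, smul_comm] at h5
      have h5 : B ((g - 1) ^ k • w) v = ε * (-1) ^ k := by
        rw [h.symm, h.adj', map_pow, hs, neg_pow, mul_pow]
        have h6 : (-1 : R) ^ k * (st g ^ k * (g - 1) ^ k) = algebraMap F R ((-1) ^ k) * (st g ^ k * (g - 1) ^ k) := by
          rw [map_pow, map_neg, map_one]
        have h7 : ∀ m, (st g ^ m * (g - 1) ^ k) • v = (g - 1) ^ k • v := by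
          intro m
          induction m with
          | zero => rw [pow_zero, one_mul]
          | succ m ih =>
            have h8 : st g ^ (m + 1) * (g - 1) ^ k = st g ^ m * (g - 1) ^ k - st g ^ (m + 1) * (g - 1) ^ (k + 1) := by
              linear_combination st g ^ m * (g - 1) ^ k * hinv
            rw [h8, sub_smul, ih, mul_smul, hk, smul_zero, sub_zero]
        rw [h6, mul_smul, algebraMap_smul, h7, bs₁, hw1, mul_one]
      rw [h4, zero_add, h5] at h3
      have h9 : (ε * (-1) ^ k) * (ε * (-1) ^ k) = 1 := by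
        have : ((-1 : F) ^ k) * (-1) ^ k = 1 := by rw [← mul_pow]; norm_num
        linear_combination ((-1 : F) ^ k * (-1) ^ k) * hε + this
      rw [h3, mul_zero] at h9
      exact zero_ne_one h9
  refine ⟨hnd, ?_⟩
  obtain ⟨δ, hδ⟩ : ∃ δ : F, δ = ε * (-1) ^ k := ⟨_, rfl⟩
  have hδ1 : δ * δ = 1 := by
    have : ((-1 : F) ^ k) * (-1) ^ k = 1 := by rw [← mul_pow]; norm_num
    rw [hδ]
    linear_combination ((-1 : F) ^ k * (-1) ^ k) * hε + this
  obtain ⟨x₀, hx₀⟩ : ∃ x₀ : R, x₀ = algebraMap F R δ * (st g ^ (k + 1) * g ^ 2) := ⟨_, rfl⟩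
  have hsx₀ : st x₀ = algebraMap F R δ * (g ^ (k + 1) * st g ^ 2) := by
    rw [hx₀, map_mul, AlgHom.commutes, map_mul, map_pow, map_pow, h.stst]
  have hx₀' : x₀ * st x₀ = 1 := by
    rw [hsx₀, hx₀]
    have h1 : algebraMap F R δ * algebraMap F R δ = 1 := by rw [← map_mul, hδ1, map_one]
    calc algebraMap F R δ * (st g ^ (k + 1) * g ^ 2) * (algebraMap F R δ * (g ^ (k + 1) * st g ^ 2))
        = (algebraMap F R δ * algebraMap F R δ) * (st g ^ (k + 1) * g ^ (k + 1)) * (st g ^ 2 * g ^ 2) := by ring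
      _ = 1 := by rw [h1, hpw, hpw, one_mul, one_mul]
  have hQg : ∀ (m : ℕ) (y : V), Q (g ^ m • y) = Q y := by
    intro m y
    induction m with
    | zero => rw [pow_zero, one_smul]
    | succ m ih => rw [pow_succ', mul_smul, h.qg, ih]
  have hQs : ∀ (m : ℕ) (y : V), Q (st g ^ m • y) = Q y := by
    intro m y
    rw [← hQg m (st g ^ m • y), smul_smul, mul_comm, hpw, one_smul]
  have hQx : ∀ y : V, Q (x₀ • y) = Q y := by
    intro y
    rw [hx₀, mul_smul, algebraMap_smul, mul_smul]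
    rcases mul_self_eq_one_iff.1 hδ1 with h1 | h1
    · rw [h1, one_smul, hQs, hQg]
    · rw [h1, neg_smul, one_smul, h.qneg, hQs, hQg]
  have hM : ∀ a d : R, B (st a • v) ((st d * x₀) • w) = B (d • w) (a • v) := by
    intro a d
    rw [h.adj', map_mul, h.stst, hsx₀, smul_smul]
    have h1 : d * (algebraMap F R δ * (g ^ (k + 1) * st g ^ 2)) * st a
        = algebraMap F R δ * (st (a * st d) * (g ^ (k + 1) * st g ^ 2)) := by
      rw [map_mul, h.stst]; ring
    rw [h1, mul_smul, algebraMap_smul, bs₁, lam h hk hw, h.symm (d • w),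
      h.adj', smul_smul, mul_comm (st d) a]
    have h2 : δ * (-1) ^ k = ε := by
      have : ((-1 : F) ^ k) * (-1) ^ k = 1 := by rw [← mul_pow]; norm_num
      rw [hδ]
      linear_combination ε * this
    rw [← mul_assoc, h2]
  let φ' : (R × R) →ₗ[F] V :=
    { toFun := fun a => st a.1 • v + (st a.2 * x₀) • w
      map_add' := by
        intro a b
        rw [Prod.fst_add, Prod.snd_add, map_add, map_add]
        simp only [add_smul, add_mul]
        abel
      map_smul' := by
        intro c a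
        rw [Prod.smul_fst, Prod.smul_snd, map_smul, map_smul, RingHom.id_apply, smul_add, smul_mul_assoc,
          smul_assoc, smul_assoc] }
  refine good_range (pr v w) φ' ?_ ?_ ?_ ?_ hnd
  · intro a ξ
    show st (a * ξ.1) • v + (st (a * ξ.2) * x₀) • w = st a • (st ξ.1 • v + (st ξ.2 * x₀) • w)
    rw [map_mul, map_mul, smul_add, smul_smul, smul_smul, mul_assoc]
  · intro ξ
    refine ⟨(st ξ.1, st ξ.2 * x₀), rfl, ?_⟩
    show st (st ξ.1) • v + (st (st ξ.2 * x₀) * x₀) • w = ξ.1 • v + ξ.2 • w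
    rw [h.stst, map_mul, h.stst, mul_assoc, mul_comm (st x₀), hx₀', mul_one]
  · intro ξ η
    show B (st ξ.1 • v + (st ξ.2 * x₀) • w) (st η.1 • v + (st η.2 * x₀) • w)
      = B (η.1 • v + η.2 • w) (ξ.1 • v + ξ.2 • w)
    simp only [map_add, LinearMap.add_apply]
    have t1 : B (st ξ.1 • v) (st η.1 • v) = B (η.1 • v) (ξ.1 • v) := by
      rw [h.adj, h.stst, h.adj, smul_smul, smul_smul, mul_comm]
    have t4 : B ((st ξ.2 * x₀) • w) ((st η.2 * x₀) • w) = B (η.2 • w) (ξ.2 • w) := by
      rw [h.adj, h.adj, smul_smul, smul_smul, map_mul, h.stst]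
      congr 2
      linear_combination (ξ.2 * st η.2) * hx₀'
    have t3 : B ((st ξ.2 * x₀) • w) (st η.1 • v) = B (η.1 • v) (ξ.2 • w) := by
      rw [h.symm, hM, ← h.symm]
    rw [t1, hM, t3, t4]
    ring
  · intro ξ
    show Q (st ξ.1 • v + (st ξ.2 * x₀) • w) = Q (ξ.1 • v + ξ.2 • w)
    rw [h.qadd, h.qadd, hM, ← h.qst, h.symm (ξ.1 • v), ← mul_assoc, h.hκ]
    have h1 : Q ((st ξ.2 * x₀) • w) = Q (ξ.2 • w) := by
      rw [mul_comm, mul_smul, hQx, ← h.qst]
    rw [h1]

end Cfsg.Agent.H976.Inv
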